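import Mathlib

/-!
# Isometry groups of a symplectic space over `GF(2)`: bounds on orders

Bounds for a group of isometries, and for one centralising a fixed-point-free isometry `y` of
order three (a unitary group over `GF(4)`).
-/

set_option autoImplicit false
set_option linter.unusedSectionVars false
set_option linter.style.haveILetI false

namespace CfsgLib.SolvClasses.LayerTwo

variable {W : Type*} [AddCommGroup W] [Module (ZMod 2) W] [Finite W]

/-- A non-degenerate alternating form. -/
structure IsSymp (B : W →ₗ[ZMod 2] W →ₗ[ZMod 2] ZMod 2) : Prop where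
  alt : ∀ v, B v v = 0
  nondeg : ∀ v, (∀ w, B v w = 0) → v = 0

variable {B : W →ₗ[ZMod 2] W →ₗ[ZMod 2] ZMod 2}

theorem zmod_two_cases : ∀ a : ZMod 2, a = 0 ∨ a = 1 := by decide

theorem IsSymp.symm (hB : IsSymp B) (u v : W) : B u v = B v u := by
  have h := hB.alt (u + v)
  simp only [map_add, LinearMap.add_apply, hB.alt, zero_add, add_zero] at h
  generalize B u v = a at h ⊢
  generalize B v u = b at h ⊢
  revert a b
  decide

theorem IsSymp.exists_pair (hB : IsSymp B) {v : W} (hv : v ≠ 0) : ∃ w, B v w = 1 := by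
  by_contra h
  push Not at h
  exact hv (hB.nondeg v fun w => (zmod_two_cases _).resolve_right (h w))

/-- The orthogonal complement of a pair. -/
def perp (B : W →ₗ[ZMod 2] W →ₗ[ZMod 2] ZMod 2) (v w : W) : Submodule (ZMod 2) W :=
  LinearMap.ker (B v) ⊓ LinearMap.ker (B w)

theorem mem_perp {v w z : W} : z ∈ perp B v w ↔ B v z = 0 ∧ B w z = 0 := by
  simp [perp]

/-- A hyperbolic pair splits off. -/
def splitEquiv (hB : IsSymp B) {v w : W} (h : B v w = 1) :
    (ZMod 2 × ZMod 2) × perp B v w ≃ W where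
  toFun x := x.1.1 • v + x.1.2 • w + (x.2 : W)
  invFun z := ((B w z, B v z), ⟨z - (B w z • v + B v z • w), by
    rw [mem_perp]
    simp only [map_sub, map_add, map_smul, hB.alt, hB.symm w v, h, smul_eq_mul, mul_one, mul_zero,
      zero_add, add_zero, sub_self, and_self]⟩)
  left_inv := by
    rintro ⟨⟨a, b⟩, z, hz⟩
    obtain ⟨h1, h2⟩ := mem_perp.1 hz
    have e1 : B w (a • v + b • w + z) = a := by
      simp [map_add, map_smul, hB.alt, hB.symm w v, h, h2]
    have e2 : B v (a • v + b • w + z) = b := by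
      simp [map_add, map_smul, hB.alt, h, h1]
    refine Prod.ext (Prod.ext e1 e2) (Subtype.ext ?_)
    simp only [e1, e2]
    abel
  right_inv z := by simp

theorem splitEquiv_apply (hB : IsSymp B) {v w : W} (h : B v w = 1)
    (x : (ZMod 2 × ZMod 2) × perp B v w) :
    splitEquiv hB h x = x.1.1 • v + x.1.2 • w + (x.2 : W) := rfl

theorem card_split (hB : IsSymp B) {v w : W} (h : B v w = 1) :
    Nat.card W = 4 * Nat.card (perp B v w) := by
  rw [← Nat.card_congr (splitEquiv hB h), Nat.card_prod, Nat.card_prod, Nat.card_zmod]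

theorem IsSymp.perp (hB : IsSymp B) {v w : W} (h : B v w = 1) :
    IsSymp (B.compl₁₂ (perp B v w).subtype (perp B v w).subtype) where
  alt z := by simp [hB.alt]
  nondeg z hz := by
    refine Subtype.ext (hB.nondeg _ fun u => ?_)
    obtain ⟨⟨⟨a, b⟩, x⟩, rfl⟩ := (splitEquiv hB h).surjective u
    obtain ⟨h1, h2⟩ := mem_perp.1 z.2
    have h3 : B (z : W) (x : W) = 0 := by simpa using hz x
    simp [splitEquiv_apply, map_add, map_smul, hB.symm (z : W) v, hB.symm (z : W) w, h1, h2, h3]

/-- `G` consists of isometries. -/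
def IsIsom (B : W →ₗ[ZMod 2] W →ₗ[ZMod 2] ZMod 2) (G : Subgroup (W ≃ₗ[ZMod 2] W)) : Prop :=
  ∀ g ∈ G, ∀ u v, B (g u) (g v) = B u v

/-- Orbit-stabiliser as an inequality. -/
theorem card_le_mul {G T : Type*} [Group G] [Finite G] [Finite T] (K : Subgroup G) (f : G → T)
    (hf : ∀ g g', f g = f g' → g⁻¹ * g' ∈ K) : Nat.card G ≤ Nat.card T * Nat.card K := by
  rw [← K.index_mul_card, Subgroup.index_eq_card]
  refine Nat.mul_le_mul_right _ (Nat.card_le_card_of_injective (fun x : G ⧸ K => f x.out) ?_)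
  intro x y hxy
  rw [← QuotientGroup.out_eq' x, ← QuotientGroup.out_eq' y]
  exact QuotientGroup.eq.2 (hf _ _ hxy)

theorem finite_equiv : Finite (W ≃ₗ[ZMod 2] W) :=
  Finite.of_injective (fun g : W ≃ₗ[ZMod 2] W => (g : W → W)) DFunLike.coe_injective

/-- The stabiliser of a pair acts faithfully on its orthogonal complement. -/
theorem exists_restrict (hB : IsSymp B) {v w : W} (h : B v w = 1)
    (G : Subgroup (W ≃ₗ[ZMod 2] W)) (hG : IsIsom B G) (hv : ∀ g ∈ G, g v = v)
    (hw : ∀ g ∈ G, g w = w) :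
    ∃ G' : Subgroup (perp B v w ≃ₗ[ZMod 2] perp B v w),
      IsIsom (B.compl₁₂ (perp B v w).subtype (perp B v w).subtype) G' ∧
      Nat.card G = Nat.card G' ∧
      ∀ g' ∈ G', ∃ g ∈ G, ∀ z, ((g' z : perp B v w) : W) = g z := by
  have hmem : ∀ g : G, ∀ z ∈ perp B v w, (g : W ≃ₗ[ZMod 2] W) z ∈ perp B v w := by
    intro g z hz
    obtain ⟨h1, h2⟩ := mem_perp.1 hz
    refine mem_perp.2 ⟨?_, ?_⟩
    · have := hG g g.2 v z
      rwa [hv g g.2, h1] at this
    · have := hG g g.2 w z
      rwa [hw g g.2, h2] at this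
  let φ : G →* (perp B v w ≃ₗ[ZMod 2] perp B v w) :=
    { toFun := fun g =>
        { toFun := fun z => ⟨(g : W ≃ₗ[ZMod 2] W) z, hmem g z z.2⟩
          invFun := fun z => ⟨((g⁻¹ : G) : W ≃ₗ[ZMod 2] W) z, hmem g⁻¹ z z.2⟩
          map_add' := fun a b => Subtype.ext (by simp)
          map_smul' := fun a b => Subtype.ext (by simp)
          left_inv := fun z => Subtype.ext (LinearEquiv.symm_apply_apply _ _)
          right_inv := fun z => Subtype.ext (LinearEquiv.apply_symm_apply _ _) }
      map_one' := rfl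
      map_mul' := fun _ _ => rfl }
  have hφ : Function.Injective φ := by
    intro a b e
    refine Subtype.ext (LinearEquiv.ext fun u => ?_)
    obtain ⟨⟨⟨c, d⟩, x⟩, rfl⟩ := (splitEquiv hB h).surjective u
    have hx : (a : W ≃ₗ[ZMod 2] W) x = (b : W ≃ₗ[ZMod 2] W) x :=
      congrArg Subtype.val (LinearEquiv.congr_fun e x)
    simp [splitEquiv_apply, hv a a.2, hv b b.2, hw a a.2, hw b b.2, hx]
  refine ⟨φ.range, ?_, Nat.card_congr (MonoidHom.ofInjective hφ).toEquiv, ?_⟩
  · rintro _ ⟨g, rfl⟩ a b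
    exact hG g g.2 a b
  · rintro _ ⟨g, rfl⟩
    exact ⟨g, g.2, fun z => rfl⟩

/-- A bound on the order of a group of isometries in dimension `2 m`. -/
def isomBound : ℕ → ℕ
  | 0 => 1
  | m + 1 => 4 ^ (m + 1) * (2 * 4 ^ m) * isomBound m

/-- At most half the vectors pair to one with a given vector. -/
theorem card_pair_le (B : W →ₗ[ZMod 2] W →ₗ[ZMod 2] ZMod 2) (v : W) :
    2 * Nat.card {w : W // B v w = 1} ≤ Nat.card W := by
  classical
  rcases isEmpty_or_nonempty {w : W // B v w = 1} with h | ⟨⟨w₀, hw₀⟩⟩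
  · simp
  let f : {w : W // B v w = 1} ⊕ {w : W // B v w = 1} → W :=
    Sum.elim (fun w => w.1) (fun w => w.1 + w₀)
  have hf : Function.Injective f := by
    have h2 : (1 : ZMod 2) + 1 ≠ 1 := by decide
    rintro (⟨a, ha⟩ | ⟨a, ha⟩) (⟨b, hb⟩ | ⟨b, hb⟩) e <;> simp only [f, Sum.elim_inl, Sum.elim_inr] at e
    · simp [e]
    · have := congrArg (B v) e
      rw [map_add, ha, hb, hw₀] at this
      exact absurd this.symm h2
    · have := congrArg (B v) e
      rw [map_add, ha, hb, hw₀] at this
      exact absurd this h2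
    · simp [add_right_cancel e]
  have := Nat.card_le_card_of_injective f hf
  rw [Nat.card_sum] at this
  omega

theorem card_isom_le : ∀ (m : ℕ) {W : Type} [AddCommGroup W] [Module (ZMod 2) W] [Finite W]
    {B : W →ₗ[ZMod 2] W →ₗ[ZMod 2] ZMod 2}, IsSymp B → Nat.card W = 4 ^ m →
    ∀ G : Subgroup (W ≃ₗ[ZMod 2] W), IsIsom B G → Nat.card G ≤ isomBound m
  | 0, W, _, _, _, B, _, hc, G, _ => by
    haveI := (Nat.card_eq_one_iff_unique.1 hc).1
    haveI : Subsingleton (W ≃ₗ[ZMod 2] W) := ⟨fun a b => LinearEquiv.ext fun _ => Subsingleton.elim _ _⟩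
    exact (Nat.card_of_subsingleton (1 : G)).le
  | m + 1, W, _, _, _, B, hB, hc, G, hG => by
    haveI := finite_equiv (W := W)
    haveI : Nontrivial W := Finite.one_lt_card_iff_nontrivial.1 (hc ▸ Nat.one_lt_pow (by omega) (by omega))
    obtain ⟨v, hv⟩ := exists_ne (0 : W)
    obtain ⟨w, hw⟩ := hB.exists_pair hv
    let Hs : Subgroup (W ≃ₗ[ZMod 2] W) :=
      G ⊓ MulAction.stabilizer (W ≃ₗ[ZMod 2] W) v ⊓ MulAction.stabilizer (W ≃ₗ[ZMod 2] W) w
    have hs : ∀ g ∈ Hs, g ∈ G ∧ g v = v ∧ g w = w := fun g hg => ⟨hg.1.1, hg.1.2, hg.2⟩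
    have h1 : Nat.card G ≤ Nat.card (Σ a : W, {b : W // B a b = 1}) * Nat.card (Hs.subgroupOf G) := by
      refine card_le_mul _ (fun g => ⟨g.1 v, g.1 w, (hG g g.2 v w).trans hw⟩) fun g g' e => ?_
      have e1 : g.1 v = g'.1 v := congrArg Sigma.fst e
      have e2 : g.1 w = g'.1 w := congrArg (fun x => (x.2 : W)) e
      refine ⟨⟨(g⁻¹ * g').2, ?_⟩, ?_⟩
      · show g.1.symm (g'.1 v) = v
        rw [← e1, LinearEquiv.symm_apply_apply]
      · show g.1.symm (g'.1 w) = w
        rw [← e2, LinearEquiv.symm_apply_apply]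
    have h2 : Nat.card (Σ a : W, {b : W // B a b = 1}) ≤ 4 ^ (m + 1) * (2 * 4 ^ m) := by
      haveI := Fintype.ofFinite W
      rw [Nat.card_sigma]
      refine (Finset.sum_le_card_nsmul _ _ (2 * 4 ^ m) fun a _ => ?_).trans (le_of_eq ?_)
      · have := card_pair_le B a
        rw [hc, pow_succ] at this
        omega
      · rw [smul_eq_mul, Finset.card_univ, ← Nat.card_eq_fintype_card, hc]
    obtain ⟨G', hG', hcard, -⟩ := exists_restrict hB hw Hs (fun g hg => hG g (hs g hg).1)
      (fun g hg => (hs g hg).2.1) (fun g hg => (hs g hg).2.2)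
    have h3 : Nat.card (perp B v w) = 4 ^ m := by
      have := card_split hB hw
      rw [hc, pow_succ] at this
      omega
    have h4 := card_isom_le m (hB.perp hw) h3 G' hG'
    have h5 : Nat.card (Hs.subgroupOf G) = Nat.card Hs :=
      Nat.card_congr (Subgroup.subgroupOfEquivOfLe fun g hg => (hs g hg).1).toEquiv
    calc Nat.card G ≤ _ := h1
      _ ≤ 4 ^ (m + 1) * (2 * 4 ^ m) * isomBound m := Nat.mul_le_mul h2 (h5 ▸ hcard ▸ h4)

/-- The number of vectors of norm one in dimension `m` over `GF(4)`. -/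
def normOne : ℕ → ℕ
  | 0 => 0
  | m + 1 => 3 * 4 ^ m - 2 * normOne m

/-- The order of the unitary group of dimension `m` over `GF(4)`. -/
def unitaryBound : ℕ → ℕ
  | 0 => 1
  | m + 1 => normOne (m + 1) * unitaryBound m

/-- An isometry with `y² + y + 1 = 0`. -/
structure IsTrio (B : W →ₗ[ZMod 2] W →ₗ[ZMod 2] ZMod 2) (y : W →ₗ[ZMod 2] W) : Prop where
  sq : ∀ u, y (y u) = y u + u
  isom : ∀ u v, B (y u) (y v) = B u v

variable {y : W →ₗ[ZMod 2] W}

theorem IsTrio.polar (hy : IsTrio B y) (hB : IsSymp B) (u v : W) :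
    B (u + v) (y (u + v)) = B u (y u) + B v (y v) + B u v := by
  have h : B v (y u) = B v u + B u (y v) := by
    rw [← hy.isom v (y u), hy.sq, map_add, hy.isom, hB.symm (y v) u]
  simp only [map_add, LinearMap.add_apply, h, hB.symm v u]
  generalize B u (y u) = a
  generalize B u v = c
  generalize B u (y v) = d
  generalize B v (y v) = b
  revert a b c d
  decide

theorem IsTrio.perp (hy : IsTrio B y) {v : W} :
    ∃ hP : ∀ z ∈ perp B v (y v), y z ∈ perp B v (y v),
      IsTrio (B.compl₁₂ (perp B v (y v)).subtype (perp B v (y v)).subtype) (y.restrict hP) := by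
  refine ⟨fun z hz => ?_, fun u => Subtype.ext (hy.sq u), fun a b => hy.isom a b⟩
  obtain ⟨h1, h2⟩ := mem_perp.1 hz
  refine mem_perp.2 ⟨?_, (hy.isom v z).trans h1⟩
  rw [← hy.isom v (y z), hy.sq, map_add, hy.isom, h1, h2, add_zero]

theorem exists_norm_one (hB : IsSymp B) (hy : IsTrio B y) [Nontrivial W] :
    ∃ v, B v (y v) = 1 := by
  by_contra h
  push Not at h
  obtain ⟨v, hv⟩ := exists_ne (0 : W)
  obtain ⟨w, hw⟩ := hB.exists_pair hv
  have h0 : ∀ u, B u (y u) = 0 := fun u => (zmod_two_cases _).resolve_right (h u)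
  have := hy.polar hB v w
  rw [h0, h0, h0, hw] at this
  exact absurd this (by decide)

theorem card_norm_one : ∀ (m : ℕ) {W : Type} [AddCommGroup W] [Module (ZMod 2) W] [Finite W]
    {B : W →ₗ[ZMod 2] W →ₗ[ZMod 2] ZMod 2} {y : W →ₗ[ZMod 2] W}, IsSymp B → IsTrio B y →
    Nat.card W = 4 ^ m → Nat.card {u : W // B u (y u) = 1} = normOne m
  | 0, W, _, _, _, B, y, _, _, hc => by
    haveI := (Nat.card_eq_one_iff_unique.1 hc).1
    haveI : IsEmpty {u : W // B u (y u) = 1} :=
      ⟨fun u => zero_ne_one (α := ZMod 2) (by rw [← u.2, Subsingleton.elim u.1 0, map_zero,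
        LinearMap.zero_apply])⟩
    exact Nat.card_of_isEmpty
  | m + 1, W, _, _, _, B, y, hB, hy, hc => by
    classical
    haveI : Nontrivial W := Finite.one_lt_card_iff_nontrivial.1 (hc ▸ Nat.one_lt_pow (by omega) (by omega))
    obtain ⟨v, hv⟩ := exists_norm_one hB hy
    obtain ⟨hP, hyP⟩ := hy.perp (v := v)
    have h3 : Nat.card (perp B v (y v)) = 4 ^ m := by
      have := card_split hB hv
      rw [hc, pow_succ] at this
      omega
    have ih := card_norm_one m (hB.perp hv) hyP h3
    haveI := Fintype.ofFinite (perp B v (y v))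
    let q : perp B v (y v) → ZMod 2 := fun z => B (z : W) (y z)
    have hq : ∀ x : (ZMod 2 × ZMod 2) × perp B v (y v),
        B (splitEquiv hB hv x) (y (splitEquiv hB hv x)) =
          (if x.1 = 0 then 0 else 1) + q x.2 := by
      rintro ⟨⟨a, b⟩, z⟩
      obtain ⟨h1, h2⟩ := mem_perp.1 z.2
      rw [splitEquiv_apply, hy.polar hB (a • v + b • y v)]
      have e : B (a • v + b • y v) (z : W) = 0 := by simp [h1, h2]
      rw [e, add_zero]
      congr 1
      rcases zmod_two_cases a with rfl | rfl <;> rcases zmod_two_cases b with rfl | rfl <;>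
        simp [hv, hy.isom, hy.sq, hB.alt, hB.symm (y v) v]
      all_goals decide
    rw [← Nat.card_congr ((splitEquiv hB hv).subtypeEquiv (fun x => (by rw [hq] :
      ((if x.1 = 0 then 0 else 1) + q x.2 = 1) ↔ _))), Nat.card_eq_fintype_card, Fintype.card_subtype]
    have hfib : ∀ c : ZMod 2, (Finset.univ.filter fun i : ZMod 2 × ZMod 2 =>
        (if i = 0 then (0 : ZMod 2) else 1) + c = 1).card = if c = 1 then 1 else 3 := by decide
    rw [Finset.card_filter, Fintype.sum_prod_type_right]
    simp only [← Finset.card_filter, hfib]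
    rw [Finset.sum_ite, Finset.sum_const, Finset.sum_const, smul_eq_mul, smul_eq_mul]
    have hn : (Finset.univ.filter fun z => q z = 1).card = normOne m := by
      rw [← Fintype.card_subtype, ← Nat.card_eq_fintype_card]
      exact ih
    have hs := Finset.card_filter_add_card_filter_not (s := (Finset.univ : Finset (perp B v (y v))))
      (fun z => q z = 1)
    rw [Finset.card_univ, ← Nat.card_eq_fintype_card, h3, hn] at hs
    rw [hn, normOne]
    omega

theorem card_unitary_le : ∀ (m : ℕ) {W : Type} [AddCommGroup W] [Module (ZMod 2) W] [Finite W]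
    {B : W →ₗ[ZMod 2] W →ₗ[ZMod 2] ZMod 2} {y : W →ₗ[ZMod 2] W}, IsSymp B → IsTrio B y →
    Nat.card W = 4 ^ m → ∀ G : Subgroup (W ≃ₗ[ZMod 2] W), IsIsom B G →
    (∀ g ∈ G, ∀ u, g (y u) = y (g u)) → Nat.card G ≤ unitaryBound m
  | 0, W, _, _, _, B, y, _, _, hc, G, _, _ => by
    haveI := (Nat.card_eq_one_iff_unique.1 hc).1
    haveI : Subsingleton (W ≃ₗ[ZMod 2] W) := ⟨fun a b => LinearEquiv.ext fun _ => Subsingleton.elim _ _⟩
    exact (Nat.card_of_subsingleton (1 : G)).le
  | m + 1, W, _, _, _, B, y, hB, hy, hc, G, hG, hcomm => by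
    haveI := finite_equiv (W := W)
    haveI : Nontrivial W := Finite.one_lt_card_iff_nontrivial.1 (hc ▸ Nat.one_lt_pow (by omega) (by omega))
    obtain ⟨v, hv⟩ := exists_norm_one hB hy
    obtain ⟨hP, hyP⟩ := hy.perp (v := v)
    let Hs : Subgroup (W ≃ₗ[ZMod 2] W) := G ⊓ MulAction.stabilizer (W ≃ₗ[ZMod 2] W) v
    have hs : ∀ g ∈ Hs, g ∈ G ∧ g v = v := fun g hg => ⟨hg.1, hg.2⟩
    have h1 : Nat.card G ≤ Nat.card {u : W // B u (y u) = 1} * Nat.card (Hs.subgroupOf G) := by
      refine card_le_mul _ (fun g => ⟨g.1 v, by rw [← hcomm g g.2 v, hG g g.2, hv]⟩) fun g g' e => ?_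
      have e1 : g.1 v = g'.1 v := congrArg Subtype.val e
      refine ⟨(g⁻¹ * g').2, ?_⟩
      show g.1.symm (g'.1 v) = v
      rw [← e1, LinearEquiv.symm_apply_apply]
    obtain ⟨G', hG', hcard, hlift⟩ := exists_restrict hB hv Hs (fun g hg => hG g (hs g hg).1)
      (fun g hg => (hs g hg).2) (fun g hg => by rw [hcomm g (hs g hg).1, (hs g hg).2])
    have h3 : Nat.card (perp B v (y v)) = 4 ^ m := by
      have := card_split hB hv
      rw [hc, pow_succ] at this
      omega
    have h4 := card_unitary_le m (hB.perp hv) hyP h3 G' hG' (fun g' hg' u => by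
      obtain ⟨g, hg, hz⟩ := hlift g' hg'
      refine Subtype.ext ?_
      rw [hz]
      show g (y u) = y (g' u : W)
      rw [hz]
      exact hcomm g (hs g hg).1 u)
    have h5 : Nat.card (Hs.subgroupOf G) = Nat.card Hs :=
      Nat.card_congr (Subgroup.subgroupOfEquivOfLe fun g hg => (hs g hg).1).toEquiv
    rw [card_norm_one (m + 1) hB hy hc] at h1
    exact h1.trans (Nat.mul_le_mul_left _ (h5 ▸ hcard ▸ h4))

/-- A non-abelian group has at most five eighths as many classes as elements. -/
theorem eight_mul_card_le {G : Type*} [Group G] [Finite G] (h : ∃ a b : G, a * b ≠ b * a) :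
    8 * Nat.card (ConjClasses G) ≤ 5 * Nat.card G := by
  classical
  have hidx : 4 ≤ (Subgroup.center G).index := by
    by_contra hlt
    push Not at hlt
    have h0 : (Subgroup.center G).index ≠ 0 := Subgroup.index_ne_zero_of_finite
    obtain ⟨a, b, hab⟩ := h
    refine hab ?_
    haveI : IsCyclic (G ⧸ Subgroup.center G) := by
      rcases (show (Subgroup.center G).index = 1 ∨ (Subgroup.center G).index = 2 ∨
          (Subgroup.center G).index = 3 by omega) with h | h | h <;>
        rw [Subgroup.index_eq_card] at h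
      · haveI : Subsingleton (G ⧸ Subgroup.center G) :=
          (Nat.card_eq_one_iff_unique.1 h).1
        infer_instance
      · exact isCyclic_of_prime_card (p := 2) h
      · haveI : Fact (Nat.Prime 3) := ⟨Nat.prime_three⟩
        exact isCyclic_of_prime_card (p := 3) h
    exact (MonoidHom.isMulCommutative_of_isCyclic_of_ker_le_center
      (QuotientGroup.mk' (Subgroup.center G)) (by rw [QuotientGroup.ker_mk'])).is_comm.comm a b
  haveI := Fintype.ofFinite (ConjClasses G)
  haveI := Fintype.ofFinite G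
  have hsum : ∑ c : ConjClasses G, Nat.card c.carrier = Nat.card G := by
    rw [← Nat.card_sigma]
    exact Nat.card_congr ((Equiv.sigmaCongrRight fun c => Equiv.refl _).trans
      (Equiv.ofBijective (fun x : Σ c : ConjClasses G, c.carrier => (x.2 : G))
        ⟨fun x y e => by
          obtain ⟨c, g, hg⟩ := x
          obtain ⟨c', g', hg'⟩ := y
          simp only at e
          subst e
          rw [ConjClasses.mem_carrier_iff_mk_eq] at hg hg'
          subst hg
          subst hg'
          rfl,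
        fun g => ⟨⟨ConjClasses.mk g, g, ConjClasses.mem_carrier_mk⟩, rfl⟩⟩))
  set S := Finset.univ.filter fun c : ConjClasses G => Nat.card c.carrier < 2
  have hS : S.card ≤ Nat.card (Subgroup.center G) := by
    rw [← Fintype.card_coe, ← Nat.card_eq_fintype_card]
    refine Nat.card_le_card_of_injective (fun c => ⟨(ConjClasses.exists_rep c.1).choose, ?_⟩) ?_
    · have hc := (Finset.mem_filter.1 c.2).2
      set g := (ConjClasses.exists_rep c.1).choose with hg
      have hgc : ConjClasses.mk g = c.1 := (ConjClasses.exists_rep c.1).choose_spec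
      rw [Subgroup.mem_center_iff]
      intro x
      haveI : Subsingleton c.1.carrier := Finite.card_le_one_iff_subsingleton.1 (by omega)
      have := congrArg Subtype.val (Subsingleton.elim
        (⟨g, ConjClasses.mem_carrier_iff_mk_eq.2 hgc⟩ : c.1.carrier)
        ⟨x * g * x⁻¹, ConjClasses.mem_carrier_iff_mk_eq.2 (by
          rw [← hgc]
          exact ConjClasses.mk_eq_mk_iff_isConj.2 (isConj_iff.2 ⟨x, rfl⟩).symm)⟩)
      simp only at this
      calc x * g = (x * g * x⁻¹) * x := by group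
        _ = g * x := by rw [← this]
    · intro a b e
      have e' := congrArg (fun z : Subgroup.center G => ConjClasses.mk (z : G)) e
      simp only [(ConjClasses.exists_rep a.1).choose_spec, (ConjClasses.exists_rep b.1).choose_spec] at e'
      exact Subtype.ext e'
  have hpos : ∀ c : ConjClasses G, 1 ≤ Nat.card c.carrier := fun c => by
    obtain ⟨g, rfl⟩ := ConjClasses.exists_rep c
    haveI : Nonempty (ConjClasses.mk g).carrier := ⟨⟨g, ConjClasses.mem_carrier_mk⟩⟩
    exact Nat.card_pos
  have hlow : 2 * Nat.card (ConjClasses G) ≤ Nat.card G + S.card := by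
    rw [← hsum, Nat.card_eq_fintype_card, ← Finset.card_univ, Finset.card_filter,
      ← Finset.sum_add_distrib, Finset.card_eq_sum_ones, Finset.mul_sum]
    refine Finset.sum_le_sum fun c _ => ?_
    have := hpos c
    split_ifs with hc <;> omega
  have hZ := (Subgroup.center G).card_mul_index
  have : 4 * Nat.card (Subgroup.center G) ≤ Nat.card G := by
    rw [← hZ, mul_comm 4]
    exact Nat.mul_le_mul_left _ hidx
  omega

end CfsgLib.SolvClasses.LayerTwo
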