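import Mathlib
import Cfsg.Agent.Lib.SolvClasses.LayerTwo.Count

/-!
# The enveloping algebra of a normal abelian subgroup of a solvable symplectic group over `GF(2)`

It is a product of fields permuted transitively by the group, with an involution given by the
adjoint.
-/

set_option autoImplicit false
set_option linter.unusedSectionVars false
set_option linter.style.haveILetI false

namespace CfsgLib.SolvClasses.LayerTwo

variable {G : Type} [Group G] [Finite G] {W : Type} [AddCommGroup W] [Module (ZMod 2) W] [Finite W]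

/-- A solvable irreducible group of isometries. -/
structure Setup (ρ : G →* (W ≃ₗ[ZMod 2] W)) (B : W →ₗ[ZMod 2] W →ₗ[ZMod 2] ZMod 2) : Prop where
  inj : Function.Injective ρ
  symp : IsSymp B
  isom : ∀ g u v, B (ρ g u) (ρ g v) = B u v
  irred : ∀ U : Submodule (ZMod 2) W, (∀ g, ∀ u ∈ U, ρ g u ∈ U) → U = ⊥ ∨ U = ⊤
  solv : Group.IsSolvable G
  big : 2 < Nat.card W

variable {ρ : G →* (W ≃ₗ[ZMod 2] W)} {B : W →ₗ[ZMod 2] W →ₗ[ZMod 2] ZMod 2}

/-- The linear maps of `G`. -/
def T (ρ : G →* (W ≃ₗ[ZMod 2] W)) : G →* Module.End (ZMod 2) W where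
  toFun g := (ρ g).toLinearMap
  map_one' := by rw [map_one]; rfl
  map_mul' a b := by rw [map_mul]; rfl

theorem T_apply (g : G) (u : W) : T ρ g u = ρ g u := rfl

theorem T_mul_inv (g : G) : T ρ g * T ρ g⁻¹ = 1 := by rw [← map_mul, mul_inv_cancel, map_one]

theorem T_inv_mul (g : G) : T ρ g⁻¹ * T ρ g = 1 := by rw [← map_mul, inv_mul_cancel, map_one]

theorem finite_End : Finite (Module.End (ZMod 2) W) :=
  Finite.of_injective (fun a : Module.End (ZMod 2) W => (a : W → W)) DFunLike.coe_injective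

theorem End_add_self (a : Module.End (ZMod 2) W) : a + a = 0 := by
  ext u
  simp only [LinearMap.add_apply, LinearMap.zero_apply]
  rw [← two_smul (ZMod 2) (a u), show (2 : ZMod 2) = 0 from rfl, zero_smul]

/-- A non-trivial abelian normal subgroup of odd order. -/
theorem Setup.exists_normal (S : Setup ρ B) :
    ∃ N : Subgroup G, N.Normal ∧ N ≠ ⊥ ∧ (∀ a ∈ N, ∀ b ∈ N, a * b = b * a) ∧ Odd (Nat.card N) := by
  classical
  have hne : (⊤ : Subgroup G) ≠ ⊥ := by
    intro h
    haveI : Nontrivial W := Finite.one_lt_card_iff_nontrivial.1 (by have := S.big; omega)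
    obtain ⟨v, hv⟩ := exists_ne (0 : W)
    have hg : ∀ g : G, g = 1 := fun g => Subgroup.mem_bot.1 (h ▸ Subgroup.mem_top g)
    rcases S.irred (Submodule.span (ZMod 2) {v}) (fun g u hu => by
      rw [hg g, map_one]; exact hu) with h1 | h1
    · exact hv (Submodule.span_singleton_eq_bot.1 h1)
    · have hsurj : Function.Surjective (fun c : ZMod 2 => c • v) := fun u => by
        have hu : u ∈ Submodule.span (ZMod 2) {v} := h1 ▸ Submodule.mem_top
        exact Submodule.mem_span_singleton.1 hu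
      have := Nat.card_le_card_of_surjective _ hsurj
      rw [Nat.card_zmod] at this
      have := S.big
      omega
  have hex : ∃ k, derivedSeries G k = ⊥ := (Group.isSolvable_def G).1 S.solv
  have hk0 : Nat.find hex ≠ 0 := fun h => hne (by
    have := Nat.find_spec hex
    rw [h, derivedSeries_zero] at this
    exact this)
  obtain ⟨j, hj⟩ := Nat.exists_eq_succ_of_ne_zero hk0
  set N := derivedSeries G j with hN
  have hNne : N ≠ ⊥ := Nat.find_min hex (by omega)
  haveI hNn : N.Normal := derivedSeries_normal G j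
  have hab : ∀ a ∈ N, ∀ b ∈ N, a * b = b * a := by
    intro a ha b hb
    have h := Nat.find_spec hex
    rw [hj, derivedSeries_succ, Subgroup.commutator_eq_bot_iff_le_centralizer] at h
    exact (Subgroup.mem_centralizer_iff.1 (h ha) b hb).symm
  refine ⟨N, hNn, hNne, hab, Nat.not_even_iff_odd.1 fun heven => ?_⟩
  haveI := Fact.mk Nat.prime_two
  obtain ⟨x, hx⟩ := exists_prime_orderOf_dvd_card' (G := N) 2 heven.two_dvd
  let U : Subgroup G :=
    { carrier := {g | g ∈ N ∧ g * g = 1}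
      one_mem' := ⟨N.one_mem, one_mul 1⟩
      mul_mem' := fun {a b} ha hb => ⟨N.mul_mem ha.1 hb.1, by
        rw [mul_assoc, ← mul_assoc b a b, hab b hb.1 a ha.1, mul_assoc a b b, hb.2, mul_one, ha.2]⟩
      inv_mem' := fun {a} ha => ⟨N.inv_mem ha.1, by rw [← mul_inv_rev, ha.2, inv_one]⟩ }
  haveI hUn : U.Normal := ⟨fun a ha g => ⟨hNn.conj_mem a ha.1 g, by
    rw [show g * a * g⁻¹ * (g * a * g⁻¹) = g * (a * a) * g⁻¹ by group, ha.2, mul_one,
      mul_inv_cancel]⟩⟩
  have hUp : IsPGroup 2 U := fun u => ⟨1, Subtype.ext (by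
    rw [pow_one, pow_two]; exact u.2.2)⟩
  letI : MulAction U W :=
    { smul := fun u v => ρ u v
      one_smul := fun v => by show ρ ((1 : U) : G) v = v; rw [Subgroup.coe_one, map_one]; rfl
      mul_smul := fun a b v => by
        show ρ ((a * b : U) : G) v = ρ a (ρ b v); rw [Subgroup.coe_mul, map_mul]; rfl }
  let F : Submodule (ZMod 2) W :=
    { carrier := {v | ∀ u : U, ρ u v = v}
      add_mem' := fun {a b} ha hb u => by rw [map_add, ha u, hb u]
      zero_mem' := fun u => map_zero _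
      smul_mem' := fun c a ha u => by rw [map_smul, ha u] }
  have hF : F = ⊤ := by
    refine (S.irred F fun g v hv u => ?_).resolve_left fun hbot => ?_
    · have hu : g⁻¹ * (u : G) * g⁻¹⁻¹ ∈ U := hUn.conj_mem u u.2 g⁻¹
      have := hv ⟨_, hu⟩
      simp only at this
      conv_rhs => rw [← this]
      rw [← LinearEquiv.mul_apply, ← LinearEquiv.mul_apply, ← map_mul, ← map_mul]
      congr 1
      group
    · have hfix := hUp.card_modEq_card_fixedPoints W
      have h1 : Nat.card (MulAction.fixedPoints U W) = 1 := by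
        rw [Nat.card_eq_one_iff_unique]
        refine ⟨⟨fun a b => Subtype.ext ?_⟩, ⟨⟨0, fun u => map_zero _⟩⟩⟩
        have ha : (a : W) ∈ F := a.2
        have hb : (b : W) ∈ F := b.2
        rw [hbot, Submodule.mem_bot] at ha hb
        rw [ha, hb]
      obtain ⟨d, hd⟩ : ∃ d, Nat.card W = 2 ^ d :=
        ⟨Module.finrank (ZMod 2) W, by rw [Module.natCard_eq_pow_finrank (K := ZMod 2), Nat.card_zmod]⟩
      have hbig := S.big
      rw [h1, hd] at hfix
      rcases d with _ | d
      · simp [hd] at hbig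
      · rw [Nat.ModEq, pow_succ, Nat.mul_mod_left] at hfix
        exact zero_ne_one hfix
  have hx1 : (x : G) = 1 := S.inj (LinearEquiv.ext fun v => by
    have hv : v ∈ F := hF ▸ Submodule.mem_top
    rw [map_one]
    exact hv ⟨(x : G), x.2, by
      rw [← Subgroup.coe_mul, ← pow_two, ← hx, pow_orderOf_eq_one, Subgroup.coe_one]⟩)
  rw [show x = 1 from Subtype.ext hx1, orderOf_one] at hx
  exact absurd hx (by omega)

section

variable (S : Setup ρ B) (N : Subgroup G)

/-- The algebra spanned by `N`. -/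
abbrev alg (ρ : G →* (W ≃ₗ[ZMod 2] W)) (N : Subgroup G) : Subalgebra (ZMod 2) (Module.End (ZMod 2) W) :=
  Algebra.adjoin (ZMod 2) (T ρ '' (N : Set G))

theorem T_mem_alg {x : G} (hx : x ∈ N) : T ρ x ∈ alg ρ N := Algebra.subset_adjoin ⟨x, hx, rfl⟩

variable {N} [N.Normal] (hab : ∀ a ∈ N, ∀ b ∈ N, a * b = b * a) (hodd : Odd (Nat.card N))

omit [N.Normal] in
theorem commute_alg_of_gens {c : Module.End (ZMod 2) W} (h : ∀ x ∈ N, c * T ρ x = T ρ x * c)
    {a : Module.End (ZMod 2) W} (ha : a ∈ alg ρ N) : c * a = a * c := by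
  induction ha using Algebra.adjoin_induction with
  | mem z hz =>
    obtain ⟨x, hx, rfl⟩ := hz
    exact h x hx
  | algebraMap r => exact (Algebra.commutes r c).symm
  | add z z' _ _ hz hz' => rw [mul_add, add_mul, hz, hz']
  | mul z z' _ _ hz hz' => rw [← mul_assoc, hz, mul_assoc, hz', mul_assoc]

include hab in
omit [N.Normal] in
theorem alg_comm {a b : Module.End (ZMod 2) W} (ha : a ∈ alg ρ N) (hb : b ∈ alg ρ N) :
    a * b = b * a := by
  refine commute_alg_of_gens (fun x hx => ?_) hb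
  refine (commute_alg_of_gens (fun y hy => ?_) ha).symm
  rw [← map_mul, ← map_mul, hab x hx y hy]

theorem conj_mem_alg (g : G) {a : Module.End (ZMod 2) W} (ha : a ∈ alg ρ N) :
    T ρ g * a * T ρ g⁻¹ ∈ alg ρ N := by
  induction ha using Algebra.adjoin_induction with
  | mem z hz =>
    obtain ⟨x, hx, rfl⟩ := hz
    rw [← map_mul, ← map_mul]
    exact T_mem_alg N (Subgroup.Normal.conj_mem ‹_› x hx g)
  | algebraMap r =>
    rw [← Algebra.commutes r (T ρ g), mul_assoc, T_mul_inv, mul_one]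
    exact Subalgebra.algebraMap_mem _ r
  | add z z' _ _ hz hz' => rw [mul_add, add_mul]; exact add_mem hz hz'
  | mul z z' _ _ hz hz' =>
    rw [show T ρ g * (z * z') * T ρ g⁻¹ =
      (T ρ g * z * T ρ g⁻¹) * (T ρ g * z' * T ρ g⁻¹) by
        simp only [← mul_assoc]
        rw [mul_assoc (T ρ g * z) (T ρ g⁻¹) (T ρ g), T_inv_mul, mul_one]]
    exact mul_mem hz hz'

include hab hodd in
omit [N.Normal] in
/-- There are no nilpotent elements. -/
theorem eq_zero_of_sq {a : Module.End (ZMod 2) W} (ha : a ∈ alg ρ N) (h : a * a = 0) : a = 0 := by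
  haveI := finite_End (W := W)
  have hsq : ∀ b ∈ alg ρ N, ∃ c ∈ alg ρ N, c * c = b := by
    intro b hb
    induction hb using Algebra.adjoin_induction with
    | mem z hz =>
      obtain ⟨x, hx, rfl⟩ := hz
      obtain ⟨k, hk⟩ := hodd
      refine ⟨T ρ (x ^ (k + 1)), T_mem_alg N (N.pow_mem hx _), ?_⟩
      rw [← map_mul, ← pow_add]
      congr 1
      have h1 : x ^ Nat.card N = 1 := by
        exact (N.coe_pow ⟨x, hx⟩ _).symm.trans
          (congrArg Subtype.val (pow_card_eq_one' (x := (⟨x, hx⟩ : N))))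
      rw [show k + 1 + (k + 1) = Nat.card N + 1 by omega, pow_succ, h1, one_mul]
    | algebraMap r =>
      refine ⟨algebraMap _ _ r, Subalgebra.algebraMap_mem _ r, ?_⟩
      rw [← map_mul]
      congr 1
      rcases zmod_two_cases r with rfl | rfl <;> decide
    | add z z' _ _ hz hz' =>
      obtain ⟨c, hc, rfl⟩ := hz
      obtain ⟨d, hd, rfl⟩ := hz'
      refine ⟨c + d, add_mem hc hd, ?_⟩
      rw [add_mul, mul_add, mul_add, alg_comm hab hd hc]
      calc c * c + c * d + (c * d + d * d) = c * c + d * d + (c * d + c * d) := by abel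
        _ = c * c + d * d := by rw [End_add_self, add_zero]
    | mul z z' _ _ hz hz' =>
      obtain ⟨c, hc, rfl⟩ := hz
      obtain ⟨d, hd, rfl⟩ := hz'
      refine ⟨c * d, mul_mem hc hd, ?_⟩
      rw [mul_assoc, ← mul_assoc d c d, alg_comm hab hd hc]
      simp only [mul_assoc]
  let sq : alg ρ N → alg ρ N := fun b => b * b
  have hsurj : Function.Surjective sq := fun b => by
    obtain ⟨c, hc, e⟩ := hsq b.1 b.2
    exact ⟨⟨c, hc⟩, Subtype.ext e⟩
  have := (Finite.injective_iff_surjective.2 hsurj) (a₁ := ⟨a, ha⟩) (a₂ := 0)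
    (Subtype.ext (by simpa [sq] using h))
  exact congrArg Subtype.val this

theorem exists_pow_idem {M : Type*} [Monoid M] [Finite M] (a : M) :
    ∃ m : ℕ, 0 < m ∧ a ^ m * a ^ m = a ^ m := by
  obtain ⟨i, j, hne, hij⟩ := Finite.exists_ne_map_eq_of_infinite (fun n : ℕ => a ^ n)
  wlog h : i < j generalizing i j with H
  · exact H j i hne.symm hij.symm (by omega)
  have h1 : ∀ k, a ^ (i + k * (j - i)) = a ^ i := by
    intro k
    induction k with
    | zero => simp
    | succ k ih =>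
      rw [show i + (k + 1) * (j - i) = (i + k * (j - i)) + (j - i) by ring, pow_add, ih, ← pow_add,
        Nat.add_sub_cancel' h.le]
      exact hij.symm
  have hle : i + 1 ≤ (i + 1) * (j - i) := Nat.le_mul_of_pos_right _ (by omega)
  obtain ⟨c, hc⟩ := Nat.exists_eq_add_of_le (show i ≤ (i + 1) * (j - i) by omega)
  refine ⟨(i + 1) * (j - i), by omega, ?_⟩
  rw [← pow_add]
  calc a ^ ((i + 1) * (j - i) + (i + 1) * (j - i))
      = a ^ c * a ^ (i + (i + 1) * (j - i)) := by rw [← pow_add]; congr 1; omega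
    _ = a ^ c * a ^ i := by rw [h1]
    _ = a ^ ((i + 1) * (j - i)) := by rw [← pow_add]; congr 1; omega

/-- A primitive idempotent of the algebra. -/
structure IsAtomI (ρ : G →* (W ≃ₗ[ZMod 2] W)) (N : Subgroup G) (ε : Module.End (ZMod 2) W) : Prop where
  mem : ε ∈ alg ρ N
  idem : ε * ε = ε
  ne : ε ≠ 0
  prim : ∀ δ ∈ alg ρ N, δ * δ = δ → ε * δ = 0 ∨ ε * δ = ε

include hab in
omit [N.Normal] in
theorem exists_atom (hW : Nontrivial W) : ∃ ε, IsAtomI ρ N ε := by
  classical
  haveI := finite_End (W := W)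
  let Idem := {ε : Module.End (ZMod 2) W // ε ∈ alg ρ N ∧ ε * ε = ε ∧ ε ≠ 0}
  haveI : Nonempty Idem := ⟨⟨1, one_mem _, one_mul 1, one_ne_zero⟩⟩
  obtain ⟨⟨ε, h1, h2, h3⟩, hmin⟩ :=
    Finite.exists_min (fun ε : Idem => Nat.card (LinearMap.range ε.1))
  refine ⟨ε, h1, h2, h3, fun δ hδ hδ2 => or_iff_not_imp_left.2 fun h0 => ?_⟩
  have hed : ε * δ * (ε * δ) = ε * δ := by
    rw [mul_assoc, ← mul_assoc δ ε δ, alg_comm hab hδ h1, mul_assoc ε δ δ, hδ2, ← mul_assoc, h2]
  have hle : LinearMap.range (ε * δ) ≤ LinearMap.range ε := by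
    rintro _ ⟨u, rfl⟩
    exact ⟨δ u, rfl⟩
  have hcard := hmin ⟨ε * δ, mul_mem h1 hδ, hed, h0⟩
  have heq : LinearMap.range (ε * δ) = LinearMap.range ε :=
    SetLike.coe_injective (Set.eq_of_subset_of_ncard_le hle (by
      rw [← Nat.card_coe_set_eq, ← Nat.card_coe_set_eq]; exact hcard) (Set.toFinite _))
  ext u
  have hu : ε u ∈ LinearMap.range (ε * δ) := heq ▸ ⟨u, rfl⟩
  obtain ⟨z, hz⟩ := hu
  have h4 : (ε * δ) (ε u) = ε u := by
    rw [← hz, ← Module.End.mul_apply, hed]
  rw [← Module.End.mul_apply, mul_assoc, alg_comm hab hδ h1, ← mul_assoc, h2] at h4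
  exact h4

theorem IsAtomI.conj {ε : Module.End (ZMod 2) W} (h : IsAtomI ρ N ε) (g : G) :
    IsAtomI ρ N (T ρ g * ε * T ρ g⁻¹) where
  mem := conj_mem_alg g h.mem
  idem := by
    calc T ρ g * ε * T ρ g⁻¹ * (T ρ g * ε * T ρ g⁻¹)
        = T ρ g * ε * (T ρ g⁻¹ * T ρ g) * ε * T ρ g⁻¹ := by simp only [mul_assoc]
      _ = T ρ g * (ε * ε) * T ρ g⁻¹ := by rw [T_inv_mul]; simp only [mul_one, mul_assoc]
      _ = _ := by rw [h.idem]
  ne h0 := h.ne (by
    have := congrArg (fun z => T ρ g⁻¹ * z * T ρ g) h0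
    simpa [← mul_assoc, T_inv_mul, mul_assoc ε] using this)
  prim δ hδ hδ2 := by
    have hd : T ρ g⁻¹ * δ * T ρ g ∈ alg ρ N := by simpa using conj_mem_alg g⁻¹ hδ
    have hd2 : T ρ g⁻¹ * δ * T ρ g * (T ρ g⁻¹ * δ * T ρ g) = T ρ g⁻¹ * δ * T ρ g := by
      calc _ = T ρ g⁻¹ * δ * (T ρ g * T ρ g⁻¹) * δ * T ρ g := by simp only [mul_assoc]
        _ = T ρ g⁻¹ * (δ * δ) * T ρ g := by rw [T_mul_inv]; simp only [mul_one, mul_assoc]
        _ = _ := by rw [hδ2]
    have key : T ρ g * ε * T ρ g⁻¹ * δ = T ρ g * (ε * (T ρ g⁻¹ * δ * T ρ g)) * T ρ g⁻¹ := by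
      simp only [mul_assoc, T_mul_inv, mul_one]
    rcases h.prim _ hd hd2 with h' | h'
    · left; rw [key, h']; simp
    · right; rw [key, h']

include hab in
omit [N.Normal] in
theorem IsAtomI.mul_eq {ε δ : Module.End (ZMod 2) W} (h : IsAtomI ρ N ε) (h' : IsAtomI ρ N δ) :
    ε * δ = 0 ∨ ε = δ := by
  rcases h.prim δ h'.mem h'.idem with h1 | h1
  · exact Or.inl h1
  rcases h'.prim ε h.mem h.idem with h2 | h2
  · left; rwa [alg_comm hab h.mem h'.mem]
  · right; rw [← h1, alg_comm hab h.mem h'.mem, h2]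

include S in
omit [N.Normal] in
/-- The adjoint of an element of the algebra lies in the algebra. -/
theorem exists_adjoint {a : Module.End (ZMod 2) W} (ha : a ∈ alg ρ N) :
    ∃ a' ∈ alg ρ N, ∀ u v, B (a u) v = B u (a' v) := by
  induction ha using Algebra.adjoin_induction with
  | mem z hz =>
    obtain ⟨x, hx, rfl⟩ := hz
    refine ⟨T ρ x⁻¹, T_mem_alg N (N.inv_mem hx), fun u v => ?_⟩
    rw [T_apply, T_apply, ← S.isom x⁻¹ (ρ x u) v, ← LinearEquiv.mul_apply, ← map_mul,
      inv_mul_cancel, map_one]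
    rfl
  | algebraMap r =>
    exact ⟨algebraMap _ _ r, Subalgebra.algebraMap_mem _ r, fun u v => by
      simp [Module.algebraMap_end_apply]⟩
  | add z z' _ _ hz hz' =>
    obtain ⟨c, hc, h1⟩ := hz
    obtain ⟨d, hd, h2⟩ := hz'
    exact ⟨c + d, add_mem hc hd, fun u v => by simp [h1, h2]⟩
  | mul z z' _ _ hz hz' =>
    obtain ⟨c, hc, h1⟩ := hz
    obtain ⟨d, hd, h2⟩ := hz'
    exact ⟨d * c, mul_mem hd hc, fun u v => by simp [Module.End.mul_apply, h1, h2]⟩

include S in
theorem adjoint_unique {a b : Module.End (ZMod 2) W} (h : ∀ u v, B u (a v) = B u (b v)) : a = b := by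
  ext v
  refine sub_eq_zero.1 (S.symp.nondeg _ fun u => ?_)
  rw [S.symp.symm, map_sub, h, sub_self]

end

end CfsgLib.SolvClasses.LayerTwo
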