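import Mathlib
import Cfsg.Agent.Lib.SolvClasses.Basic
import Cfsg.Agent.Lib.SolvClasses.LayerTwo.Algebra

/-!
# The homogeneous case: the algebra is a field of even degree
-/

set_option autoImplicit false
set_option linter.unusedSectionVars false
set_option linter.style.haveILetI false

namespace CfsgLib.SolvClasses.LayerTwo

variable {G : Type} [Group G] [Finite G] {W : Type} [AddCommGroup W] [Module (ZMod 2) W] [Finite W]
  {ρ : G →* (W ≃ₗ[ZMod 2] W)} {B : W →ₗ[ZMod 2] W →ₗ[ZMod 2] ZMod 2}

/-- The homogeneous case: `G` is a semilinear group over `GF(2 ^ e)` with `e` even. -/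
theorem exists_field (S : Setup ρ B) (N : Subgroup G) [N.Normal] (hN : N ≠ ⊥)
    (hab : ∀ a ∈ N, ∀ b ∈ N, a * b = b * a) (hodd : Odd (Nat.card N)) (h1 : IsAtomI ρ N 1) :
    ∃ (e k : ℕ) (C : Subgroup G),
      2 ∣ e ∧ Nat.card W = (2 ^ e) ^ k ∧ Nat.card G ≤ e * Nat.card C ∧
      Nat.card C ≤ Nat.card W ^ k ∧
      (∀ m, e = 2 → Nat.card W = 4 ^ m → Nat.card C ≤ unitaryBound m) ∧
      (e = 4 → k = 1 → Nat.card C ≤ 5) ∧
      (∀ H : Subgroup G, C ≤ H → (∀ a ∈ H, ∀ b ∈ H, a * b = b * a) → H ≤ C) := by
  classical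
  haveI := finite_End (W := W)
  haveI hW : Nontrivial W := Finite.one_lt_card_iff_nontrivial.1 (by have := S.big; omega)
  set A := alg ρ N with hA
  have hfield : IsField A := by
    refine ⟨⟨0, 1, zero_ne_one⟩, fun a b => Subtype.ext (alg_comm hab a.2 b.2), fun {a} ha => ?_⟩
    obtain ⟨m, hm, hidem⟩ := exists_pow_idem a
    have hne : a ^ m ≠ 0 := by
      intro h0
      refine ha ?_
      have hpow : ∀ j, a ^ 2 ^ j = 0 → a = 0 := by
        intro j
        induction j with
        | zero => simp
        | succ j ih =>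
          intro h
          rw [pow_succ, mul_comm, pow_mul'] at h
          refine ih (Subtype.ext ?_)
          refine eq_zero_of_sq hab hodd (a ^ 2 ^ j : A).2 ?_
          rw [pow_two] at h
          exact congrArg Subtype.val h
      exact hpow m (pow_eq_zero_of_le (Nat.lt_two_pow_self).le h0)
    have hone : a ^ m = 1 := by
      rcases h1.prim _ (a ^ m).2 (congrArg Subtype.val hidem) with h | h
      · exact absurd (Subtype.ext ((one_mul _).symm.trans h)) hne
      · exact Subtype.ext ((one_mul _).symm.trans h)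
    exact ⟨a ^ (m - 1), by rw [← pow_succ', Nat.sub_add_cancel hm, hone]⟩
  letI : Field A := hfield.toField
  haveI : Finite A := inferInstance
  haveI : Module.Finite A W := Module.Finite.of_finite
  set e := Module.finrank (ZMod 2) A with he
  set k := Module.finrank A W with hk
  have hcardA : Nat.card A = 2 ^ e := by
    rw [Module.natCard_eq_pow_finrank (K := ZMod 2), Nat.card_zmod]
  have hcardW : Nat.card W = (2 ^ e) ^ k := by
    rw [Module.natCard_eq_pow_finrank (K := A), hcardA]
  -- conjugation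
  let θ : G →* (A ≃ₐ[ZMod 2] A) :=
    { toFun := fun g => AlgEquiv.ofBijective
        { toFun := fun a => ⟨T ρ g * a.1 * T ρ g⁻¹, conj_mem_alg g a.2⟩
          map_one' := Subtype.ext (by
            show T ρ g * (1 : Module.End (ZMod 2) W) * T ρ g⁻¹ = 1
            rw [mul_one, T_mul_inv])
          map_mul' := fun a b => Subtype.ext (by
            show T ρ g * (a.1 * b.1) * T ρ g⁻¹ = T ρ g * a.1 * T ρ g⁻¹ * (T ρ g * b.1 * T ρ g⁻¹)
            simp only [← mul_assoc]
            rw [mul_assoc (T ρ g * a.1) (T ρ g⁻¹) (T ρ g), T_inv_mul, mul_one])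
          map_zero' := Subtype.ext (by
            show T ρ g * (0 : Module.End (ZMod 2) W) * T ρ g⁻¹ = 0
            rw [mul_zero, zero_mul])
          map_add' := fun a b => Subtype.ext (by
            show T ρ g * (a.1 + b.1) * T ρ g⁻¹ = _
            rw [mul_add, add_mul]; rfl)
          commutes' := fun r => Subtype.ext (by
            show T ρ g * algebraMap _ _ r * T ρ g⁻¹ = algebraMap _ _ r
            rw [← Algebra.commutes r (T ρ g), mul_assoc, T_mul_inv, mul_one]) }
        (Finite.injective_iff_bijective.1 fun a b hab' => by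
          have h := congrArg (fun z : A => T ρ g⁻¹ * z.1 * T ρ g) hab'
          refine Subtype.ext ?_
          simpa [← mul_assoc, T_inv_mul, mul_assoc a.1, mul_assoc b.1] using h)
      map_one' := AlgEquiv.ext fun a => Subtype.ext (by
        show T ρ 1 * a.1 * T ρ 1⁻¹ = a.1
        rw [inv_one, map_one, one_mul, mul_one])
      map_mul' := fun g h => AlgEquiv.ext fun a => Subtype.ext (by
        show T ρ (g * h) * a.1 * T ρ (g * h)⁻¹ = T ρ g * (T ρ h * a.1 * T ρ h⁻¹) * T ρ g⁻¹
        simp [mul_inv_rev, mul_assoc]) }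
  have hC : ∀ c : G, c ∈ θ.ker ↔ ∀ a : A, T ρ c * a.1 = a.1 * T ρ c := by
    intro c
    rw [MonoidHom.mem_ker, AlgEquiv.ext_iff]
    refine forall_congr' fun a => ?_
    constructor
    · intro h
      have h' : T ρ c * a.1 * T ρ c⁻¹ = a.1 := congrArg Subtype.val h
      conv_rhs => rw [← h', mul_assoc (T ρ c * a.1), T_inv_mul, mul_one]
    · intro h
      refine Subtype.ext ?_
      show T ρ c * a.1 * T ρ c⁻¹ = a.1
      rw [h, mul_assoc, T_mul_inv, mul_one]
  have hbij := FiniteField.bijective_frobeniusAlgEquivOfAlgebraic_pow (ZMod 2) A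
  haveI : Finite (A ≃ₐ[ZMod 2] A) := Finite.of_surjective _ hbij.2
  have hcardAut : Nat.card (A ≃ₐ[ZMod 2] A) = e := by
    rw [← Nat.card_congr (Equiv.ofBijective _ hbij), Nat.card_fin]
  have hGC : Nat.card G ≤ e * Nat.card θ.ker := by
    rw [← θ.ker.index_mul_card, Subgroup.index_ker, ← hcardAut]
    exact Nat.mul_le_mul_right _ (Subgroup.card_le_card_group _)
  have hlin : ∀ c ∈ θ.ker, ∀ (a : A) (u : W), ρ c (a • u) = a • ρ c u := fun c hc a u =>
    LinearMap.congr_fun ((hC c).1 hc a) u
  let bA := Module.finBasis A W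
  have hCle : Nat.card θ.ker ≤ Nat.card W ^ k := by
    refine (Nat.card_le_card_of_injective (fun c : θ.ker => fun i => ρ (c : G) (bA i)) ?_).trans ?_
    · intro c c' h
      refine Subtype.ext (S.inj (LinearEquiv.ext fun u => ?_))
      conv_lhs => rw [← bA.sum_repr u]
      conv_rhs => rw [← bA.sum_repr u]
      simp only [map_sum, hlin _ c.2, hlin _ c'.2]
      exact Finset.sum_congr rfl fun i _ => by rw [show ρ (c : G) (bA i) = ρ (c' : G) (bA i) from congrFun h i]
    · rw [Nat.card_fun, Nat.card_fin]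
  -- the adjoint
  have hstar : ∀ a : A, ∃ a' : A, ∀ u v, B (a.1 u) v = B u (a'.1 v) := fun a => by
    obtain ⟨a', ha', h⟩ := exists_adjoint S a.2
    exact ⟨⟨a', ha'⟩, h⟩
  choose st hst using hstar
  have hu : ∀ {a b : A}, (∀ u v, B u (a.1 v) = B u (b.1 v)) → a = b := fun h =>
    Subtype.ext (adjoint_unique S h)
  let σ : A ≃ₐ[ZMod 2] A := AlgEquiv.ofBijective
    { toFun := st
      map_one' := hu fun u v => (hst 1 u v).symm
      map_mul' := fun a b => hu fun u v => by
        rw [mul_comm (st a)]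
        show _ = B u ((st b).1 ((st a).1 v))
        rw [← hst b, ← hst a, ← hst (a * b)]
        rfl
      map_zero' := hu fun u v => by
        rw [← hst 0]
        show B ((0 : Module.End (ZMod 2) W) u) v = B u ((0 : Module.End (ZMod 2) W) v)
        simp
      map_add' := fun a b => hu fun u v => by
        rw [← hst (a + b)]
        show B (a.1 u + b.1 u) v = B u ((st a).1 v + (st b).1 v)
        rw [map_add, map_add, LinearMap.add_apply, hst a, hst b]
      commutes' := fun r => hu fun u v => by
        rw [← hst]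
        show B ((algebraMap (ZMod 2) (Module.End (ZMod 2) W) r) u) v =
          B u ((algebraMap (ZMod 2) (Module.End (ZMod 2) W) r) v)
        simp [Module.algebraMap_end_apply] }
    (Function.Involutive.bijective fun a => hu fun u v => by
      show B u ((st (st a)).1 v) = B u (a.1 v)
      rw [← hst (st a), S.symp.symm, ← hst a, S.symp.symm])
  have hσ : ∀ (a : A) u v, B (a.1 u) v = B u ((σ a).1 v) := hst
  have hσ2 : σ ^ 2 = 1 := AlgEquiv.ext fun a => hu fun u v => by
    show B u ((σ (σ a)).1 v) = B u (a.1 v)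
    rw [← hσ, S.symp.symm, ← hσ, S.symp.symm]
  obtain ⟨y, hyN, hy1⟩ : ∃ y ∈ N, y ≠ 1 := N.bot_or_exists_ne_one.resolve_left hN
  let η : A := ⟨T ρ y, T_mem_alg N hyN⟩
  have hσ1 : σ ≠ 1 := by
    intro h
    have h2 : y⁻¹ = y := by
      refine S.inj (LinearEquiv.ext fun v => ?_)
      refine sub_eq_zero.1 (S.symp.nondeg _ fun u => ?_)
      have h3 : B (ρ y u) v = B u (ρ y v) := by
        have := hσ η u v
        rwa [h] at this
      have h4 : B (ρ y u) v = B u (ρ y⁻¹ v) := by
        rw [← S.isom y⁻¹ (ρ y u) v, ← LinearEquiv.mul_apply, ← map_mul, inv_mul_cancel, map_one]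
        rfl
      rw [S.symp.symm, map_sub, ← h4, h3, sub_self]
    refine hy1 ?_
    have h5 : orderOf (⟨y, hyN⟩ : N) ∣ 2 := orderOf_dvd_of_pow_eq_one (Subtype.ext (by
      rw [Subgroup.coe_pow, pow_two, Subgroup.coe_one]
      show y * y = 1
      conv_lhs => arg 1; rw [← h2]
      rw [inv_mul_cancel]))
    rcases (Nat.dvd_prime Nat.prime_two).1 h5 with h6 | h6
    · exact congrArg Subtype.val (orderOf_eq_one_iff.1 h6)
    · exact absurd (h6 ▸ orderOf_dvd_natCard (⟨y, hyN⟩ : N)) hodd.not_two_dvd_nat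
  have hord : orderOf σ = 2 := by
    haveI := Fact.mk Nat.prime_two
    exact orderOf_eq_prime hσ2 hσ1
  have he2 : 2 ∣ e := by
    have h := orderOf_dvd_natCard σ
    rwa [hord, hcardAut] at h
  refine ⟨e, k, θ.ker, he2, hcardW, hGC, hCle, ?_, ?_, ?_⟩
  · intro m hem hcm
    have hη1 : η ≠ 1 := fun h => hy1 (S.inj (LinearEquiv.ext fun v => by
      have := LinearMap.congr_fun (congrArg Subtype.val h) v
      rw [map_one]
      exact this))
    have hη0 : η ≠ 0 := fun h => by
      obtain ⟨v, hv⟩ := exists_ne (0 : W)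
      exact hv ((ρ y).injective ((LinearMap.congr_fun (congrArg Subtype.val h) v).trans (map_zero _).symm))
    haveI := Fintype.ofFinite A
    have hη3 : η ^ 3 = 1 := by
      have := FiniteField.pow_card_sub_one_eq_one η hη0
      rwa [← Nat.card_eq_fintype_card, hcardA, hem] at this
    have hηsq : η * η = η + 1 := by
      have hfac : (η - 1) * (η * η + η + 1) = 0 := by linear_combination hη3
      have hz := (mul_eq_zero.1 hfac).resolve_left (sub_ne_zero.2 hη1)
      have h2' : (η + 1) + (η + 1) = 0 := Subtype.ext (End_add_self (η + 1).1)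
      linear_combination hz - h2'
    have htrio : IsTrio B (T ρ y) := ⟨fun u => by
        have := LinearMap.congr_fun (congrArg Subtype.val hηsq) u
        exact this, S.isom y⟩
    have hcm' : Nat.card θ.ker = Nat.card (θ.ker.map ρ) :=
      Nat.card_congr (θ.ker.equivMapOfInjective ρ S.inj).toEquiv
    rw [hcm']
    refine card_unitary_le m S.symp htrio hcm _ ?_ ?_
    · rintro _ ⟨c, _, rfl⟩ u v
      exact S.isom c u v
    · rintro _ ⟨c, hc, rfl⟩ u
      exact hlin c hc η u
  · intro he4 hk1
    obtain ⟨⟨i, hi⟩, hσi⟩ := hbij.2 σ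
    simp only at hσi
    have hfo := FiniteField.orderOf_frobeniusAlgEquivOfAlgebraic (ZMod 2) A
    rw [← he, he4] at hfo
    have hi2 : i = 2 := by
      rw [← he, he4] at hi
      have h2 : 4 ∣ i * 2 := by
        rw [← hfo]
        refine orderOf_dvd_of_pow_eq_one ?_
        rw [pow_mul, hσi, hσ2]
      have h0 : i ≠ 0 := fun h0 => hσ1 (by rw [← hσi, h0, pow_zero])
      omega
    have hσ4 : ∀ a : A, σ a = a ^ 4 := fun a => by
      rw [← hσi, hi2, pow_two, AlgEquiv.mul_apply,
        FiniteField.coe_frobeniusAlgEquivOfAlgebraic]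
      simp only [← pow_mul, ← Nat.card_eq_fintype_card, Nat.card_zmod]
    haveI : Nonempty (Fin k) := ⟨⟨0, by omega⟩⟩
    have hrep : ∀ c : θ.ker, ∃ l : A, ∀ u, ρ (c : G) u = l • u := by
      intro c
      obtain ⟨w, hw⟩ := exists_ne (0 : W)
      obtain ⟨l, hl⟩ := (finrank_eq_one_iff_of_nonzero' w hw).1 hk1 (ρ (c : G) w)
      refine ⟨l, fun u => ?_⟩
      obtain ⟨μ, rfl⟩ := (finrank_eq_one_iff_of_nonzero' w hw).1 hk1 u
      rw [hlin _ c.2, ← hl, smul_comm]
    choose l hl using hrep
    have hl5 : ∀ c : θ.ker, (l c) ^ 5 = 1 := by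
      intro c
      have h : σ (l c) * l c = 1 := hu fun u v => by
        show B u ((σ (l c)).1 ((l c).1 v)) = B u v
        rw [← hσ]
        show B (l c • u) (l c • v) = B u v
        rw [← hl, ← hl, S.isom]
      rw [hσ4] at h
      linear_combination h
    refine (Nat.card_le_card_of_injective (fun c => rootsOfUnity.mkOfPowEq (l c) (hl5 c)) ?_).trans
      (card_rootsOfUnity A 5)
    intro c c' h
    have h' : l c = l c' := congrArg (fun z : rootsOfUnity 5 A => ((z : Aˣ) : A)) h
    refine Subtype.ext (S.inj (LinearEquiv.ext fun u => ?_))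
    rw [hl, hl, h']
  · intro H hCH hcomm c hc
    rw [hC]
    intro a
    refine commute_alg_of_gens (fun x hx => ?_) a.2
    have hxC : x ∈ θ.ker := (hC x).2 fun b => alg_comm hab (T_mem_alg N hx) b.2
    rw [← map_mul, ← map_mul, hcomm c hc x (hCH hxC)]

end CfsgLib.SolvClasses.LayerTwo
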