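import Mathlib
import Cfsg.Agent.Lib.SolvClasses.Basic
import Cfsg.Agent.Lib.SolvClasses.LayerTwo.Algebra

/-!
# The imprimitive case

Several primitive idempotents: the group permutes at least two orthogonal summands.
-/

set_option autoImplicit false
set_option linter.unusedSectionVars false
set_option linter.style.haveILetI false

namespace CfsgLib.SolvClasses.LayerTwo

variable {G : Type} [Group G] [Finite G] {W : Type} [AddCommGroup W] [Module (ZMod 2) W] [Finite W]
  {ρ : G →* (W ≃ₗ[ZMod 2] W)} {B : W →ₗ[ZMod 2] W →ₗ[ZMod 2] ZMod 2}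

/-- The cardinality of a space with a non-degenerate alternating form is a power of four. -/
theorem IsSymp.exists_card_eq : ∀ (N : ℕ) {V : Type} [AddCommGroup V] [Module (ZMod 2) V] [Finite V]
    {C : V →ₗ[ZMod 2] V →ₗ[ZMod 2] ZMod 2}, IsSymp C → Nat.card V ≤ N → ∃ m, Nat.card V = 4 ^ m
  | 0, V, _, _, _, C, _, h => by have := Nat.card_pos (α := V); omega
  | N + 1, V, _, _, _, C, hC, h => by
    rcases subsingleton_or_nontrivial V with hs | hn
    · exact ⟨0, Nat.card_of_subsingleton (0 : V)⟩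
    obtain ⟨v, hv⟩ := exists_ne (0 : V)
    obtain ⟨w, hw⟩ := hC.exists_pair hv
    have hsplit := card_split hC hw
    obtain ⟨m, hm⟩ := exists_card_eq N (hC.perp hw) (by
      have := Nat.card_pos (α := LayerTwo.perp C v w); omega)
    exact ⟨m + 1, by rw [hsplit, hm, pow_succ, mul_comm]⟩

/-- Linear equivalences of a space of known dimension, as matrices. -/
theorem exists_toGL {V : Type*} [AddCommGroup V] [Module (ZMod 2) V] [Finite V] {d : ℕ}
    (hd : Module.finrank (ZMod 2) V = d) :
    Nonempty ((V ≃ₗ[ZMod 2] V) ≃* GL (Fin d) (ZMod 2)) := by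
  haveI : Module.Finite (ZMod 2) V := Module.Finite.of_finite
  let b := Module.finBasisOfFinrankEq (ZMod 2) V hd
  exact ⟨(LinearMap.GeneralLinearGroup.generalLinearEquiv (ZMod 2) V).symm.trans
    (Units.mapEquiv (LinearMap.toMatrixAlgEquiv b).toMulEquiv)⟩

/-- An injective homomorphism into a finite group bounds the order. -/
theorem card_le_of_hom {H K : Type*} [Group H] [Group K] [Finite K] (f : H →* K)
    (hf : Function.Injective f) : Nat.card H ≤ Nat.card K :=
  Nat.card_le_card_of_injective f hf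

/-- The imprimitive case. -/
theorem exists_split (S : Setup ρ B) (N : Subgroup G) [N.Normal]
    (hab : ∀ a ∈ N, ∀ b ∈ N, a * b = b * a) {ε : Module.End (ZMod 2) W} (hε : IsAtomI ρ N ε)
    (hne : ε ≠ 1) :
    ∃ (b d : ℕ) (f : G →* Equiv.Perm (Fin b)) (φ : f.ker →* (Fin b → GL (Fin d) (ZMod 2))),
      2 ≤ b ∧ Nat.card W = (2 ^ d) ^ b ∧ Function.Injective φ ∧
      (b = 2 → (∃ ψ : f.ker →* GL (Fin d) (ZMod 2), Function.Injective ψ) ∨
        ∃ m, 2 ^ d = 4 ^ m ∧ Nat.card f.ker ≤ isomBound m * isomBound m) := by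
  classical
  haveI := finite_End (W := W)
  haveI hW : Nontrivial W := Finite.one_lt_card_iff_nontrivial.1 (by have := S.big; omega)
  let cj : G → Module.End (ZMod 2) W := fun g => T ρ g * ε * T ρ g⁻¹
  let I := Set.range cj
  haveI : Finite I := inferInstance
  haveI := Fintype.ofFinite I
  have hatom : ∀ δ : I, IsAtomI ρ N δ.1 := by
    rintro ⟨_, g, rfl⟩; exact hε.conj g
  have hconj : ∀ (g : G) (δ : I), T ρ g * δ.1 * T ρ g⁻¹ ∈ I := by
    rintro g ⟨_, h, rfl⟩
    refine ⟨g * h, ?_⟩
    simp only [cj, mul_inv_rev, map_mul, mul_assoc]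
  let pm : G →* Equiv.Perm I :=
    { toFun := fun g =>
        { toFun := fun δ => ⟨_, hconj g δ⟩
          invFun := fun δ => ⟨_, hconj g⁻¹ δ⟩
          left_inv := fun δ => Subtype.ext (by
            simp only [inv_inv]
            simp only [mul_assoc, T_inv_mul, mul_one]
            rw [← mul_assoc, T_inv_mul, one_mul])
          right_inv := fun δ => Subtype.ext (by
            simp only [inv_inv]
            simp only [mul_assoc, T_mul_inv, mul_one]
            rw [← mul_assoc, T_mul_inv, one_mul]) }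
      map_one' := Equiv.ext fun δ => Subtype.ext (by simp)
      map_mul' := fun g h => Equiv.ext fun δ => Subtype.ext (by simp [mul_assoc]) }
  have horth : ∀ δ η : I, δ ≠ η → δ.1 * η.1 = 0 := fun δ η h =>
    ((hatom δ).mul_eq hab (hatom η)).resolve_right fun e => h (Subtype.ext e)
  set s : Module.End (ZMod 2) W := ∑ δ : I, δ.1 with hs
  have hsδ : ∀ δ : I, δ.1 * s = δ.1 := fun δ => by
    rw [hs, Finset.mul_sum, Finset.sum_eq_single δ (fun η _ hη => horth δ η hη.symm)
      (fun h => absurd (Finset.mem_univ δ) h)]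
    exact (hatom δ).idem
  have hsidem : s * s = s := by
    conv_lhs => arg 1; rw [hs]
    rw [Finset.sum_mul]
    exact Finset.sum_congr rfl fun δ _ => hsδ δ
  have hscomm : ∀ g : G, T ρ g * s = s * T ρ g := by
    intro g
    have : T ρ g * s * T ρ g⁻¹ = s := by
      rw [hs, Finset.mul_sum, Finset.sum_mul]
      exact Fintype.sum_equiv (pm g) _ _ fun δ => rfl
    calc T ρ g * s = T ρ g * s * T ρ g⁻¹ * T ρ g := by rw [mul_assoc (T ρ g * s), T_inv_mul, mul_one]
      _ = s * T ρ g := by rw [this]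
  have hε0 : ε ∈ I := ⟨1, by simp [cj]⟩
  have hs1 : s = 1 := by
    rcases S.irred (LinearMap.range s) (fun g u hu => by
      obtain ⟨z, rfl⟩ := hu
      exact ⟨T ρ g z, by rw [← Module.End.mul_apply, ← hscomm]; rfl⟩) with h | h
    · rw [LinearMap.range_eq_bot] at h
      exact absurd ((hsδ ⟨ε, hε0⟩).symm.trans (by rw [h, mul_zero])) hε.ne
    · ext u
      have hu : u ∈ LinearMap.range s := h ▸ Submodule.mem_top
      obtain ⟨z, rfl⟩ := hu
      rw [Module.End.one_apply, ← Module.End.mul_apply, hsidem]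
  -- the summands
  let R : I → Submodule (ZMod 2) W := fun δ => LinearMap.range δ.1
  have hfix : ∀ (δ : I) (u : R δ), δ.1 (u : W) = u := by
    rintro δ ⟨_, z, rfl⟩
    show δ.1 (δ.1 z) = δ.1 z
    rw [← Module.End.mul_apply, (hatom δ).idem]
  have hsum : ∀ u : W, ∑ δ : I, δ.1 u = u := fun u => by
    rw [← LinearMap.sum_apply, ← hs, hs1, Module.End.one_apply]
  let E : W ≃ (∀ δ : I, R δ) :=
    { toFun := fun u δ => ⟨δ.1 u, u, rfl⟩
      invFun := fun p => ∑ δ : I, ((p δ : R δ) : W)
      left_inv := hsum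
      right_inv := fun p => funext fun δ => Subtype.ext (by
        show δ.1 (∑ η : I, ((p η : R η) : W)) = _
        rw [map_sum, Finset.sum_eq_single δ _ (fun h => absurd (Finset.mem_univ δ) h)]
        · exact hfix δ (p δ)
        · intro η _ hη
          rw [← hfix η (p η), ← Module.End.mul_apply, horth δ η hη.symm, LinearMap.zero_apply]) }
  set d := Module.finrank (ZMod 2) (R ⟨ε, hε0⟩) with hd
  have hrank : ∀ δ : I, Module.finrank (ZMod 2) (R δ) = d := by
    rintro ⟨_, g, rfl⟩
    have : R ⟨cj g, g, rfl⟩ = (R ⟨ε, hε0⟩).map (ρ g : W →ₗ[ZMod 2] W) := by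
      ext u
      constructor
      · rintro ⟨z, rfl⟩
        exact ⟨ε (T ρ g⁻¹ z), ⟨_, rfl⟩, rfl⟩
      · rintro ⟨_, ⟨z, rfl⟩, rfl⟩
        refine ⟨T ρ g z, ?_⟩
        show (T ρ g * ε * T ρ g⁻¹) (T ρ g z) = T ρ g (ε z)
        rw [← Module.End.mul_apply, mul_assoc (T ρ g * ε), T_inv_mul, mul_one]
        rfl
    rw [this]
    exact LinearEquiv.finrank_map_eq (ρ g) _
  have hcardR : ∀ δ : I, Nat.card (R δ) = 2 ^ d := fun δ => by
    rw [Module.natCard_eq_pow_finrank (K := ZMod 2), Nat.card_zmod, hrank δ]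
  have hcardW : Nat.card W = (2 ^ d) ^ Fintype.card I := by
    rw [Nat.card_congr E, Nat.card_pi, Finset.prod_congr rfl fun δ _ => hcardR δ, Finset.prod_const,
      Finset.card_univ]
  have hb : 2 ≤ Fintype.card I := by
    by_contra hlt
    have hsub : ∀ δ : I, δ = ⟨ε, hε0⟩ := fun δ =>
      (Fintype.card_le_one_iff_subsingleton.1 (by omega)).elim _ _
    refine hne ?_
    rw [← hs1, hs, Finset.sum_eq_single ⟨ε, hε0⟩ (fun η _ hη => absurd (hsub η) hη)
      (fun h => absurd (Finset.mem_univ _) h)]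
  let eI := Fintype.equivFin I
  let f : G →* Equiv.Perm (Fin (Fintype.card I)) := eI.permCongrHom.toMonoidHom.comp pm
  have hker : ∀ x : f.ker, ∀ δ : I, T ρ (x : G) * δ.1 = δ.1 * T ρ (x : G) := by
    intro x δ
    have h1 : pm (x : G) = 1 :=
      eI.permCongrHom.injective ((MonoidHom.mem_ker.1 x.2).trans (map_one _).symm)
    have h2 : T ρ (x : G) * δ.1 * T ρ (x : G)⁻¹ = δ.1 :=
      congrArg Subtype.val (Equiv.congr_fun h1 δ)
    conv_rhs => rw [← h2, mul_assoc (T ρ (x : G) * δ.1), T_inv_mul, mul_one]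
  have hinv : ∀ (x : f.ker) (δ : I) (u : W), u ∈ R δ → ρ (x : G) u ∈ R δ := by
    rintro x δ _ ⟨z, rfl⟩
    exact ⟨ρ (x : G) z, (LinearMap.congr_fun (hker x δ) z).symm⟩
  let res : ∀ δ : I, f.ker →* (R δ ≃ₗ[ZMod 2] R δ) := fun δ =>
    { toFun := fun x =>
        { toFun := fun u => ⟨ρ (x : G) u, hinv x δ u u.2⟩
          invFun := fun u => ⟨ρ ((x⁻¹ : f.ker) : G) u, hinv x⁻¹ δ u u.2⟩
          map_add' := fun a c => Subtype.ext (map_add (ρ (x : G)) _ _)
          map_smul' := fun a c => Subtype.ext (map_smul (ρ (x : G)) _ _)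
          left_inv := fun u => Subtype.ext (by
            show ρ ((x⁻¹ : f.ker) : G) (ρ (x : G) u) = u
            rw [Subgroup.coe_inv, map_inv]
            exact LinearEquiv.symm_apply_apply _ _)
          right_inv := fun u => Subtype.ext (by
            show ρ (x : G) (ρ ((x⁻¹ : f.ker) : G) u) = u
            rw [Subgroup.coe_inv, map_inv]
            exact LinearEquiv.apply_symm_apply _ _) }
      map_one' := LinearEquiv.ext fun u => Subtype.ext (by
        show ρ ((1 : f.ker) : G) (u : W) = u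
        rw [Subgroup.coe_one, map_one]; rfl)
      map_mul' := fun x y => LinearEquiv.ext fun u => Subtype.ext (by
        show ρ ((x * y : f.ker) : G) (u : W) = ρ (x : G) (ρ (y : G) u)
        rw [Subgroup.coe_mul, map_mul]; rfl) }
  have hfaith : ∀ x : f.ker, (∀ δ : I, res δ x = 1) → x = 1 := by
    intro x hx
    refine Subtype.ext (S.inj (LinearEquiv.ext fun u => ?_))
    rw [Subgroup.coe_one, map_one, LinearEquiv.coe_one, id_eq]
    conv_lhs => rw [← hsum u]
    rw [map_sum]
    conv_rhs => rw [← hsum u]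
    exact Finset.sum_congr rfl fun δ _ =>
      congrArg Subtype.val (LinearEquiv.congr_fun (hx δ) ⟨δ.1 u, u, rfl⟩)
  let gl : ∀ δ : I, (R δ ≃ₗ[ZMod 2] R δ) ≃* GL (Fin d) (ZMod 2) := fun δ =>
    (exists_toGL (hrank δ)).some
  let φ : f.ker →* (Fin (Fintype.card I) → GL (Fin d) (ZMod 2)) :=
    MonoidHom.pi fun i => (gl (eI.symm i)).toMonoidHom.comp (res (eI.symm i))
  refine ⟨Fintype.card I, d, f, φ, hb, hcardW, ?_, ?_⟩
  · rw [injective_iff_map_eq_one]
    intro x hx
    refine hfaith x fun δ => ?_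
    have := congrFun hx (eI δ)
    have key : ∀ η : I, η = δ → gl η (res η x) = 1 → res δ x = 1 := by
      rintro η rfl h
      exact (gl η).injective (h.trans (map_one _).symm)
    exact key _ (eI.symm_apply_apply δ) this
  intro hb2
  -- the adjoint of `ε`
  set e0 : I := ⟨ε, hε0⟩ with he0
  obtain ⟨a, ha, hadj⟩ := exists_adjoint S (hatom e0).mem
  obtain ⟨e1, he1⟩ : ∃ e1 : I, e1 ≠ e0 := Fintype.exists_ne_of_one_lt_card (by omega) e0
  have htwo : ∀ δ : I, δ = e0 ∨ δ = e1 := by
    intro δ
    by_contra h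
    push Not at h
    have h3 : ({δ, e0, e1} : Finset I).card = 3 :=
      Finset.card_eq_three.2 ⟨δ, e0, e1, h.1, h.2, he1.symm, rfl⟩
    have := h3 ▸ Finset.card_le_univ ({δ, e0, e1} : Finset I)
    omega
  have hu01 : ∀ u : W, e0.1 u + e1.1 u = u := fun u => by
    conv_rhs => rw [← hsum u]
    rw [show (Finset.univ : Finset I) = {e0, e1} from
      (Finset.eq_univ_of_forall fun δ => by simpa using htwo δ).symm, Finset.sum_pair he1.symm]
  -- the adjoint of `ε` is an idempotent
  have haa : a * a = a := adjoint_unique S fun u v => by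
    rw [Module.End.mul_apply, ← hadj, ← hadj, ← hadj, ← Module.End.mul_apply, (hatom e0).idem]
  have hpart : ∀ δ : I, a * δ.1 = 0 ∨ a * δ.1 = δ.1 := fun δ => by
    rcases (hatom δ).prim a ha haa with h | h
    · left; rwa [alg_comm hab ha (hatom δ).mem]
    · right; rwa [alg_comm hab ha (hatom δ).mem]
  have hsum1 : e0.1 + e1.1 = 1 := LinearMap.ext fun z => by simpa using hu01 z
  have hdec : a = a * e0.1 + a * e1.1 := by rw [← mul_add, hsum1, mul_one]
  rcases hpart e0 with hswap | hself
  · -- totally singular summands, determined by each other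
    left
    refine ⟨(gl e0).toMonoidHom.comp (res e0),
      (injective_iff_map_eq_one _).2 fun x hx => hfaith x fun δ => ?_⟩
    have h0 : res e0 x = 1 := (gl e0).injective (hx.trans (map_one _).symm)
    rcases htwo δ with h | h <;> rw [h]
    · exact h0
    have ha1 : a = e1.1 := by
      rcases hpart e1 with h' | h'
      · exfalso
        rw [hswap, h', add_zero] at hdec
        refine (hatom e0).ne (LinearMap.ext fun z => S.symp.nondeg _ fun w => ?_)
        rw [hadj, hdec, LinearMap.zero_apply, map_zero]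
      · rwa [hswap, zero_add, h'] at hdec
    have hB0 : ∀ p q : W, B (e0.1 p) (e0.1 q) = 0 := fun p q => by
      rw [hadj, ← Module.End.mul_apply, hswap, LinearMap.zero_apply, map_zero]
    have hB1 : ∀ p q : W, B (e1.1 p) (e1.1 q) = 0 := fun p q => by
      have h1 : B p (e1.1 q) = B (e0.1 p) (e1.1 q) + B (e1.1 p) (e1.1 q) := by
        rw [← LinearMap.add_apply, ← map_add, hu01]
      rw [hadj, ha1, ← Module.End.mul_apply e1.1, (hatom e1).idem] at h1
      linear_combination -h1
    refine LinearEquiv.ext fun u => Subtype.ext (sub_eq_zero.1 (S.symp.nondeg _ fun w => ?_))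
    have hxw : ρ (x : G) (e0.1 w) = e0.1 w :=
      congrArg Subtype.val (LinearEquiv.congr_fun h0 ⟨e0.1 w, w, rfl⟩)
    rw [← hu01 w, map_add, map_sub, LinearMap.sub_apply, LinearMap.sub_apply]
    show B (ρ (x : G) (u : W)) (e0.1 w) - B (u : W) (e0.1 w) +
      (B (ρ (x : G) (u : W)) (e1.1 w) - B (u : W) (e1.1 w)) = 0
    have k1 : B (ρ (x : G) (u : W)) (e1.1 w) = 0 := by
      rw [← show e1.1 (ρ (x : G) (u : W)) = ρ (x : G) (u : W) from
        hfix e1 ⟨_, hinv x e1 _ u.2⟩, hB1]
    have k2 : B (u : W) (e1.1 w) = 0 := by rw [← hfix e1 u, hB1]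
    have k3 : B (ρ (x : G) (u : W)) (e0.1 w) = B (u : W) (e0.1 w) := by
      conv_lhs => rw [← hxw, S.isom]
    rw [k1, k2, k3, sub_self, sub_self, add_zero]
  · -- non-degenerate summands
    right
    have ha0 : a = e0.1 := by
      rcases hpart e1 with h' | h'
      · rwa [hself, h', add_zero] at hdec
      · exfalso
        rw [hself, h', hsum1] at hdec
        have h1 : e0.1 = 1 := LinearMap.ext fun z => sub_eq_zero.1 (S.symp.nondeg _ fun w => by
          rw [map_sub, LinearMap.sub_apply, hadj, hdec, Module.End.one_apply, Module.End.one_apply,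
            sub_self])
        exact (hatom e1).ne (by rw [← mul_one e1.1, ← h1, horth e1 e0 he1])
    have hsymp : ∀ δ : I, IsSymp (B.compl₁₂ (R δ).subtype (R δ).subtype) := by
      have hself' : ∀ δ : I, ∀ u v, B (δ.1 u) v = B u (δ.1 v) := by
        intro δ
        rcases htwo δ with h | h <;> rw [h]
        · intro u v; rw [hadj, ha0]
        · intro u v
          have e : ∀ z : W, e1.1 z = z - e0.1 z := fun z => eq_sub_of_add_eq (by
            rw [add_comm]; exact hu01 z)
          rw [e, e, map_sub, LinearMap.sub_apply, hadj, ha0, map_sub]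
      intro δ
      refine ⟨fun u => by simp [S.symp.alt], fun u hu => Subtype.ext (S.symp.nondeg _ fun w => ?_)⟩
      rw [← hfix δ u, hself']
      exact hu ⟨δ.1 w, w, rfl⟩
    obtain ⟨m, hm⟩ := IsSymp.exists_card_eq _ (hsymp e0) le_rfl
    refine ⟨m, (hcardR e0).symm.trans hm, ?_⟩
    have hbd : ∀ δ : I, Nat.card (res δ).range ≤ isomBound m := fun δ =>
      card_isom_le m (hsymp δ) ((hcardR δ).trans ((hcardR e0).symm.trans hm)) (res δ).range
        (by rintro _ ⟨x, rfl⟩ p q; exact S.isom _ _ _)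
    haveI : ∀ δ : I, Finite (res δ).range := fun δ =>
      Finite.of_surjective (fun x : f.ker => (⟨res δ x, x, rfl⟩ : (res δ).range)) (by
        rintro ⟨_, x, rfl⟩; exact ⟨x, rfl⟩)
    refine (Nat.card_le_card_of_injective (fun x : f.ker =>
      ((⟨res e0 x, x, rfl⟩ : (res e0).range), (⟨res e1 x, x, rfl⟩ : (res e1).range))) ?_).trans ?_
    · intro x y hxy
      have h0 : res e0 x = res e0 y := congrArg (fun p => ((p.1 : _) : R e0 ≃ₗ[ZMod 2] R e0)) hxy
      have h1 : res e1 x = res e1 y := congrArg (fun p => ((p.2 : _) : R e1 ≃ₗ[ZMod 2] R e1)) hxy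
      refine eq_of_mul_inv_eq_one (hfaith _ fun δ => ?_)
      rcases htwo δ with h | h <;> rw [h]
      · rw [map_mul, map_inv, h0, mul_inv_cancel]
      · rw [map_mul, map_inv, h1, mul_inv_cancel]
    · rw [Nat.card_prod]
      exact Nat.mul_le_mul (hbd e0) (hbd e1)

end CfsgLib.SolvClasses.LayerTwo
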